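import Groth.Prelude.Def_AlgGrp
import Groth.Agent.GrpQuotLib.Orbit
import Groth.Agent.FlatLocus.FibreCrit
import Mathlib

/-! An extension of two groups with the Néron lifting property has it. -/

set_option autoImplicit false
set_option backward.isDefEq.respectTransparency false
set_option backward.isDefEq.respectTransparency.types false
set_option linter.style.haveILetI false
set_option maxHeartbeats 1000000
set_option synthInstance.maxHeartbeats 100000

universe u

open CategoryTheory CategoryTheory.Limits MonoidalCategory CartesianMonoidalCategory MonObj AlgebraicGeometry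

noncomputable section

namespace Groth.Agent.NeronExtLib

/-- Smoothness descends along a faithfully flat morphism of finite presentation from its base change by itself. -/
theorem smooth_of_selfPullback {X Y R : Scheme.{u}} [Y.IsSeparated] (q : X ⟶ Y) [Flat q] [Surjective q]
    [LocallyOfFinitePresentation q] {a b : R ⟶ X} (h : IsPullback a b q q) [Smooth b] : Smooth q := by
  refine IsZariskiLocalAtSource.of_iSup_eq_top (P := @Smooth) (fun W : X.affineOpens => W.1)
    (iSup_affineOpens_eq_top X) fun W => ?_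
  let V : Y.Opens := ⟨q '' W.1, q.isOpenMap _ W.1.2⟩
  have hWV : W.1 ≤ q ⁻¹ᵁ V := fun w hw => ⟨w, hw, rfl⟩
  let v : (W.1 : Scheme.{u}) ⟶ (V : Scheme.{u}) := X.homOfLE hWV ≫ (q ∣_ V)
  have hv : v ≫ V.ι = W.1.ι ≫ q := by
    rw [Category.assoc, morphismRestrict_ι, Scheme.homOfLE_ι_assoc]
  haveI : Surjective v := ⟨fun y => by
    obtain ⟨w, hw, hwy⟩ := y.2
    refine ⟨⟨w, hw⟩, V.ι.isOpenEmbedding.injective ?_⟩
    rw [← Scheme.Hom.comp_apply, hv]
    exact hwy⟩
  haveI : Flat v := inferInstance
  haveI : IsAffine (W.1 : Scheme.{u}) := W.2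
  haveI : CompactSpace (W.1 : Scheme.{u}) := inferInstance
  haveI : (V : Scheme.{u}).IsSeparated := ⟨by
    rw [show terminal.from (V : Scheme.{u}) = V.ι ≫ terminal.from Y from terminal.hom_ext _ _]
    infer_instance⟩
  haveI : QuasiCompact v := inferInstance
  haveI : Smooth (pullback.fst W.1.ι b) := inferInstance
  have h1 : IsPullback (pullback.snd W.1.ι b ≫ a) (pullback.fst W.1.ι b) q (v ≫ V.ι) := by
    rw [hv]; exact (IsPullback.of_hasPullback W.1.ι b).flip.paste_horiz h
  have h2 := isPullback_morphismRestrict q V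
  have h3 := IsPullback.of_right' h1 h2.flip
  haveI : Smooth (q ∣_ V) := MorphismProperty.of_isPullback_of_descendsAlong (P := @Smooth)
    (Q := @Surjective ⊓ @Flat ⊓ @QuasiCompact) h3.flip ⟨⟨‹_›, ‹_›⟩, ‹_›⟩ ‹_›
  rw [← hv]
  infer_instance

variable {S : Scheme.{u}}

/-- A homomorphism which is faithfully flat with smooth kernel is smooth. -/
theorem smooth_of_kernel {G H N : Over S} [GrpObj G] [GrpObj H] [H.left.IsSeparated] [Smooth G.hom] [Smooth N.hom]
    [LocallyOfFiniteType H.hom] (φ : G ⟶ H) [IsMonHom φ] [Surjective φ.left] [Flat φ.left] (i : N ⟶ G)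
    (hN : AlgGrp.IsKernel i φ) : Smooth φ.left := by
  haveI : LocallyOfFinitePresentation φ.left := by
    haveI : LocallyOfFinitePresentation (φ.left ≫ H.hom) := by rw [Over.w]; infer_instance
    exact Groth.Agent.FlatLocus.locallyOfFinitePresentation_of_comp φ.left H.hom
  have hi : i ≫ φ = 1 := by rw [hN.w, Hom.one_def]
  haveI : Mono η[H] := SplitMono.mono ⟨toUnit H, toUnit_unique _ _⟩
  haveI : Mono i := ⟨fun a b hab => hN.hom_ext hab (toUnit_unique _ _)⟩
  have w : (fst G N * (snd G N ≫ i)) ≫ φ = fst G N ≫ φ := by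
    rw [MonObj.mul_comp, Category.assoc, hi, MonObj.comp_one, _root_.mul_one]
  have key : ∀ (s : Limits.PullbackCone φ φ), ∃ l : s.pt ⟶ N, l ≫ i = s.snd⁻¹ * s.fst := fun s =>
    ⟨hN.lift _ (toUnit _) (by rw [MonObj.mul_comp, GrpObj.inv_comp, s.condition, inv_mul_cancel, Hom.one_def]),
      hN.lift_fst _ _ _⟩
  choose l hl using key
  have sq : IsPullback (fst G N * (snd G N ≫ i)) (fst G N) φ φ := by
    refine ⟨⟨w⟩, ⟨Limits.PullbackCone.IsLimit.mk w (fun s => lift s.snd (l s)) (fun s => ?_) (fun s => lift_fst _ _)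
      fun s m h₁ h₂ => ?_⟩⟩
    · rw [MonObj.comp_mul, lift_fst, lift_snd_assoc, hl, mul_inv_cancel_left]
    · apply CartesianMonoidalCategory.hom_ext
      · rw [lift_fst, h₂]
      · rw [lift_snd, ← cancel_mono i, hl, Category.assoc, ← h₁, MonObj.comp_mul, h₂, inv_mul_cancel_left]
  haveI : Smooth (fst G N).left := MorphismProperty.of_isPullback (P := @Smooth)
    (IsPullback.of_hasPullback G.hom N.hom).flip ‹_›
  exact smooth_of_selfPullback φ.left (GrpQuotLib.isPullback_left sq)

theorem isPullback_map {X Y : Over S} (u : X ⟶ Y) {T : Scheme.{u}} (b : T ⟶ S) :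
    IsPullback (pullback.fst X.hom b) ((Over.pullback b).map u).left u.left (pullback.fst Y.hom b) := by
  refine IsPullback.of_bot ?_ (pullback.lift_fst _ _ _).symm (IsPullback.of_hasPullback Y.hom b)
  rw [show ((Over.pullback b).map u).left ≫ pullback.snd Y.hom b = pullback.snd X.hom b from Over.w _, Over.w u]
  exact IsPullback.of_hasPullback X.hom b

variable {S' : Scheme.{u}} (η' : S' ⟶ S)

/-- The Néron lifting property passes to extensions. -/
theorem bijective_of_extension [S.IsSeparated] (G' G G'' : Over S) [GrpObj G'] [GrpObj G] [GrpObj G'']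
    [Smooth G'.hom] [Smooth G.hom] [Smooth G''.hom] [IsSeparated G''.hom]
    (i : G' ⟶ G) (q : G ⟶ G'') [IsMonHom i] [IsMonHom q]
    (hker : AlgGrp.IsKernel i q) [Flat q.left] [Surjective q.left]
    (hG' : ∀ Y : Over S, Smooth Y.hom → Function.Bijective (fun g : Y ⟶ G' => (Over.pullback η').map g))
    (hG'' : ∀ Y : Over S, Smooth Y.hom → Function.Bijective (fun g : Y ⟶ G'' => (Over.pullback η').map g)) :
    ∀ Y : Over S, Smooth Y.hom → Function.Bijective (fun g : Y ⟶ G => (Over.pullback η').map g) := by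
  haveI : G''.left.IsSeparated := ⟨by
    rw [show terminal.from G''.left = G''.hom ≫ terminal.from S from terminal.hom_ext _ _]
    infer_instance⟩
  haveI : Smooth q.left := smooth_of_kernel q i hker
  haveI : Mono η[G''] := SplitMono.mono ⟨toUnit G'', toUnit_unique _ _⟩
  haveI : Mono i := ⟨fun a b hab => hker.hom_ext hab (toUnit_unique _ _)⟩
  let F := Over.pullback η'
  letI : GrpObj (F.obj G) := Functor.grpObjObj
  letI : GrpObj (F.obj G') := Functor.grpObjObj
  letI : GrpObj (F.obj G'') := Functor.grpObjObj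
  haveI : Mono (F.map i) := inferInstance
  have hkerF : IsPullback (F.map i) (F.map (toUnit G')) (F.map q) (F.map η[G'']) :=
    Functor.map_isPullback F hker
  have hlift : ∀ {P : Over S} (a : F.obj P ⟶ F.obj G), a ≫ F.map q = 1 → ∃ c, c ≫ F.map i = a := fun {P} a ha => by
    refine ⟨hkerF.lift a (F.map (toUnit P)) ?_, hkerF.lift_fst _ _ _⟩
    rw [ha, ← Functor.map_comp, ← Hom.one_def, Functor.map_one]
  have hinj : ∀ Y : Over S, Smooth Y.hom → ∀ a b : Y ⟶ G, F.map a = F.map b → a = b := fun Y hY a b hab => by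
    have hq : a ≫ q = b ≫ q := (hG'' Y hY).1 (by
      show F.map (a ≫ q) = F.map (b ≫ q)
      rw [Functor.map_comp, Functor.map_comp, hab])
    have h1 : (a * b⁻¹) ≫ q = 1 := by rw [MonObj.mul_comp, GrpObj.inv_comp, hq, mul_inv_cancel]
    let c := hker.lift (a * b⁻¹) (toUnit Y) (by rw [h1, Hom.one_def])
    have hc : c ≫ i = a * b⁻¹ := hker.lift_fst _ _ _
    have hc1 : c = 1 := (hG' Y hY).1 (by
      show F.map c = F.map 1
      rw [← cancel_mono (F.map i), ← Functor.map_comp, hc, ← Functor.map_comp, MonObj.one_comp, Functor.map_mul,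
        Functor.map_one, hab, ← Functor.map_mul, mul_inv_cancel, Functor.map_one])
    rw [hc1, MonObj.one_comp] at hc
    exact mul_inv_eq_one.1 hc.symm
  intro Y hY
  refine ⟨fun a b h => hinj Y hY a b h, fun z => ?_⟩
  haveI := hY
  obtain ⟨y'', hy''⟩ := (hG'' Y hY).2 (z ≫ F.map q)
  replace hy'' : F.map y'' = z ≫ F.map q := hy''
  let P : Over S := Over.mk (pullback.fst y''.left q.left ≫ Y.hom)
  let π : P ⟶ Y := Over.homMk (pullback.fst y''.left q.left) rfl
  let p : P ⟶ G := Over.homMk (pullback.snd y''.left q.left) (by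
    show _ = pullback.fst y''.left q.left ≫ Y.hom
    rw [← Over.w q, ← Over.w y'', pullback.condition_assoc])
  have hπp : π ≫ y'' = p ≫ q := Over.OverMorphism.ext pullback.condition
  haveI : Smooth π.left := inferInstanceAs (Smooth (pullback.fst y''.left q.left))
  haveI : Surjective π.left := inferInstanceAs (Surjective (pullback.fst y''.left q.left))
  have hP : Smooth P.hom := inferInstanceAs (Smooth (pullback.fst y''.left q.left ≫ Y.hom))
  obtain ⟨c, hc⟩ := hlift (P := P) ((F.map p)⁻¹ * (F.map π ≫ z)) (by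
    rw [MonObj.mul_comp, GrpObj.inv_comp, Category.assoc, ← hy'', ← Functor.map_comp, ← Functor.map_comp, hπp,
      inv_mul_cancel])
  obtain ⟨g', hg'⟩ := (hG' P hP).2 c
  replace hg' : F.map g' = c := hg'
  let p' : P ⟶ G := p * (g' ≫ i)
  have hp' : F.map p' = F.map π ≫ z := by
    rw [Functor.map_mul, Functor.map_comp, hg', hc, mul_inv_cancel_left]
  have hdesc : ∀ {W : Scheme.{u}} (g₁ g₂ : W ⟶ P.left), g₁ ≫ π.left = g₂ ≫ π.left → g₁ ≫ p'.left = g₂ ≫ p'.left := by
    intro W g₁ g₂ hg
    let R : Over S := Over.mk (pullback.fst π.left π.left ≫ P.hom)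
    let r₁ : R ⟶ P := Over.homMk (pullback.fst π.left π.left) rfl
    let r₂ : R ⟶ P := Over.homMk (pullback.snd π.left π.left) (by
      show _ = pullback.fst π.left π.left ≫ P.hom
      rw [← Over.w π, pullback.condition_assoc])
    have hR : Smooth R.hom := by
      haveI := hP
      exact inferInstanceAs (Smooth (pullback.fst π.left π.left ≫ P.hom))
    have hr : r₁ ≫ π = r₂ ≫ π := Over.OverMorphism.ext pullback.condition
    have h := congrArg CommaMorphism.left (hinj R hR (r₁ ≫ p') (r₂ ≫ p') (by
      rw [Functor.map_comp, Functor.map_comp, hp', ← Category.assoc, ← Category.assoc, ← Functor.map_comp,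
        ← Functor.map_comp, hr]))
    replace h : pullback.fst π.left π.left ≫ p'.left = pullback.snd π.left π.left ≫ p'.left := h
    rw [← pullback.lift_fst g₁ g₂ hg, Category.assoc, h, pullback.lift_snd_assoc]
  let yl : Y.left ⟶ G.left := EffectiveEpi.desc π.left p'.left hdesc
  have hyl : π.left ≫ yl = p'.left := EffectiveEpi.fac π.left p'.left hdesc
  haveI : Epi π.left := Flat.epi_of_flat_of_surjective π.left
  let y : Y ⟶ G := Over.homMk yl (by
    rw [← cancel_epi π.left, ← Category.assoc, hyl, Over.w p', Over.w π])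
  refine ⟨y, ?_⟩
  show F.map y = z
  haveI : Epi (F.map π) := by
    haveI : Flat (F.map π).left := MorphismProperty.of_isPullback (P := @Flat)
      (isPullback_map π η') (inferInstanceAs (Flat π.left))
    haveI : Surjective (F.map π).left := MorphismProperty.of_isPullback (P := @Surjective)
      (isPullback_map π η') ‹Surjective π.left›
    haveI : Epi (F.map π).left := Flat.epi_of_flat_of_surjective _
    exact Over.epi_of_epi_left _
  rw [← cancel_epi (F.map π), ← Functor.map_comp, ← hp']
  exact congrArg F.map (Over.OverMorphism.ext hyl)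

end Groth.Agent.NeronExtLib
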